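import Mathlib.LinearAlgebra.Matrix.SchurComplement
import Mathlib.LinearAlgebra.Matrix.NonsingularInverse
import Mathlib.RingTheory.Polynomial.UniqueFactorization
import Mathlib.RingTheory.IntegralClosure.IntegrallyClosed
import Mathlib.RingTheory.Localization.FractionRing
import Mathlib.RingTheory.Polynomial.RationalRoot
import Mathlib.Algebra.MvPolynomial.CommRing
import Mathlib.Data.Matrix.Block

/-!
# Determinants of skew-symmetric matrices are squares
-/

set_option autoImplicit false

namespace Groth.Agent.SkewDet28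

open Matrix

universe u

theorem aux {F : Type u} [Field F] : ∀ (n : ℕ) (M : Matrix (Fin n) (Fin n) F), Mᵀ = -M → (∀ i, M i i = 0) →
    IsSquare M.det := by
  intro n
  induction n using Nat.strong_induction_on with
  | _ n ih =>
    intro M hM hd
    classical
    rcases n with _ | _ | m
    · rw [Matrix.det_fin_zero]; exact ⟨1, (mul_one _).symm⟩
    · rw [Matrix.det_fin_one, hd]; exact ⟨0, (mul_zero _).symm⟩
    by_cases h0 : ∀ j, M 0 j = 0
    · rw [Matrix.det_eq_zero_of_row_eq_zero 0 h0]; exact ⟨0, (mul_zero _).symm⟩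
    push Not at h0
    obtain ⟨j, hj⟩ := h0
    have hj0 : j ≠ 0 := fun h => hj (h ▸ hd 0)
    let σ : Equiv.Perm (Fin (m + 2)) := Equiv.swap 1 j
    have hσ0 : σ 0 = 0 := Equiv.swap_apply_of_ne_of_ne (by simp) hj0.symm
    let e : Fin 2 ⊕ Fin m ≃ Fin (m + 2) :=
      (finSumFinEquiv.trans (finCongr (by omega))).trans σ
    have hN : (M.submatrix e e).det = M.det := Matrix.det_submatrix_equiv_self e M
    set N := M.submatrix e e with hNdef
    have hNt : Nᵀ = -N := by
      rw [hNdef, Matrix.transpose_submatrix, hM]; rfl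
    have hNs : ∀ x y, N x y = -N y x := fun x y => by
      have := congrFun (congrFun hNt y) x
      simpa using this
    have hNd : ∀ x, N x x = 0 := fun x => hd _
    have e0 : e (Sum.inl 0) = 0 := by
      simp only [e, Equiv.trans_apply]
      convert hσ0 using 2
      ext; simp
    have e1 : e (Sum.inl 1) = j := by
      simp only [e, Equiv.trans_apply]
      convert Equiv.swap_apply_left 1 j using 2
      ext; simp
    have ha : N (Sum.inl 0) (Sum.inl 1) ≠ 0 := by
      show M (e _) (e _) ≠ 0
      rw [e0, e1]; exact hj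
    set P := N.toBlocks₁₁ with hP
    have hPdet : P.det = N (Sum.inl 0) (Sum.inl 1) * N (Sum.inl 0) (Sum.inl 1) := by
      rw [Matrix.det_fin_two]
      simp only [hP, Matrix.toBlocks₁₁, Matrix.of_apply, hNd, mul_zero, zero_sub]
      rw [hNs (Sum.inl 1) (Sum.inl 0)]
      ring
    haveI : Invertible P := Matrix.invertibleOfIsUnitDet P (by
      rw [hPdet]; exact isUnit_iff_ne_zero.2 (mul_ne_zero ha ha))
    rw [← hN, ← Matrix.fromBlocks_toBlocks N, Matrix.det_fromBlocks₁₁]
    refine IsSquare.mul ⟨_, hPdet⟩ (ih m (by omega) _ ?_ fun i => ?_)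
    · have hPt : Pᵀ = -P := by ext a b; simp [hP, Matrix.toBlocks₁₁, hNs (Sum.inl b) (Sum.inl a)]
      have hPi : (⅟P)ᵀ = -⅟P := by
        have h1 : Pᵀ * (⅟P)ᵀ = 1 := by rw [← Matrix.transpose_mul, invOf_mul_self, Matrix.transpose_one]
        rw [hPt, Matrix.neg_mul, ← Matrix.mul_neg] at h1
        exact (neg_eq_iff_eq_neg.2 (invOf_eq_right_inv h1)).symm
      have hQ : N.toBlocks₂₁ = -N.toBlocks₁₂ᵀ := by
        ext a b; simp [Matrix.toBlocks₂₁, Matrix.toBlocks₁₂, hNs (Sum.inr a) (Sum.inl b)]
      have hS : N.toBlocks₂₂ᵀ = -N.toBlocks₂₂ := by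
        ext a b; simp [Matrix.toBlocks₂₂, hNs (Sum.inr b) (Sum.inr a)]
      rw [hQ, Matrix.transpose_sub, Matrix.transpose_mul, Matrix.transpose_mul, Matrix.transpose_neg,
        Matrix.transpose_transpose, hS, hPi]
      simp [Matrix.mul_assoc]
      abel
    · -- the diagonal
      simp only [Matrix.sub_apply, Matrix.mul_apply, Matrix.toBlocks₂₂, Matrix.of_apply, hNd, zero_sub, neg_eq_zero]
      rw [Fin.sum_univ_two, Fin.sum_univ_two, Fin.sum_univ_two]
      simp only [Matrix.toBlocks₂₁, Matrix.toBlocks₁₂, Matrix.of_apply]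
      have hinv : ⅟P = P.det⁻¹ • P.adjugate := by
        rw [Matrix.invOf_eq_nonsing_inv, Matrix.inv_def, Ring.inverse_eq_inv']
      rw [hinv, Matrix.adjugate_fin_two]
      simp only [hP, Matrix.toBlocks₁₁, Matrix.of_apply, Matrix.smul_apply, Matrix.cons_val', Matrix.cons_val_zero,
        Matrix.cons_val_one, Matrix.cons_val_fin_one, hNd, hNs (Sum.inr i) (Sum.inl _), smul_eq_mul]
      rw [hNs (Sum.inl 1) (Sum.inl 0)]
      ring

/-- The generic skew-symmetric matrix. -/
noncomputable def gen (n : ℕ) (R : Type u) [CommRing R] : Matrix (Fin n) (Fin n) (MvPolynomial (Fin n × Fin n) R) :=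
  fun i j => if i < j then MvPolynomial.X (i, j) else if j < i then -MvPolynomial.X (j, i) else 0

theorem exists_gen_sqrt (n : ℕ) (R : Type u) [CommRing R] [IsDomain R] [UniqueFactorizationMonoid R] :
    ∃ p, (gen n R).det = p * p := by
  classical
  let P := MvPolynomial (Fin n × Fin n) R
  let F := FractionRing P
  obtain ⟨q, hq⟩ := aux n ((gen n R).map (algebraMap P F)) (by
    ext i j
    simp only [Matrix.transpose_apply, Matrix.map_apply, Matrix.neg_apply, ← map_neg, gen]
    rcases lt_trichotomy i j with h | h | h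
    · simp [h, h.le.not_gt]
    · simp [h]
    · simp [h, h.le.not_gt]; exact (neg_neg (algebraMap P F (MvPolynomial.X (j, i)))).symm) (fun i => by simp [gen])
  replace hq : algebraMap P F (gen n R).det = q * q := by rw [RingHom.map_det]; exact hq
  obtain ⟨p, hp⟩ := IsIntegrallyClosed.exists_algebraMap_eq_of_isIntegral_pow (R := P) (K := F) (x := q)
    (n := 2) (by norm_num) (by rw [sq, ← hq]; exact isIntegral_algebraMap)
  exact ⟨p, IsFractionRing.injective P F (by rw [hq, map_mul, hp])⟩

/-- The determinant of a skew-symmetric matrix is the square of a universal polynomial. -/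
theorem exists_pfaffian (n : ℕ) (R : Type u) [CommRing R] [IsDomain R] [UniqueFactorizationMonoid R] :
    ∃ p : MvPolynomial (Fin n × Fin n) R, ∀ (S : Type u) [CommRing S] (φ : R →+* S) (M : Matrix (Fin n) (Fin n) S),
      Mᵀ = -M → (∀ i, M i i = 0) → M.det = MvPolynomial.eval₂ φ (fun ij => M ij.1 ij.2) p ^ 2 := by
  obtain ⟨p, hp⟩ := exists_gen_sqrt n R
  refine ⟨p, fun S _ φ M hM hd => ?_⟩
  let ev := MvPolynomial.eval₂Hom φ fun ij : Fin n × Fin n => M ij.1 ij.2
  have h : (gen n R).map ev = M := by
    ext i j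
    rw [Matrix.map_apply, gen]
    rcases lt_trichotomy i j with h | h | h
    · simp [ev, h]
    · subst h; simp [ev, hd]
    · have := congrFun (congrFun hM i) j
      simp [ev, h, h.le.not_gt] at this ⊢
      rw [this, neg_neg]
  calc M.det = ev (gen n R).det := by rw [RingHom.map_det]; exact (congrArg Matrix.det h).symm
    _ = _ := by rw [hp, map_mul, sq]; rfl

end Groth.Agent.SkewDet28
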